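import Groth.Agent.Sga5.HcConst
import Groth.Agent.Sga4B.ConstLC
import Groth.Prelude.Def_EtCore

/-!
# Orders of the cohomology groups of constant étale sheaves with finite values

* `card_obj_pi` : an additive functor of `M` turns finite products into products (orders);
* `card_obj_of_cyclic` : if `|Φ(ℤ/n)| = n ^ c` for all `n ≥ 1` dividing `N` and `M` is finite killed by `N`, then
  `|Φ(M)| = |M| ^ c`;
* `card_H0_const` : `|H⁰(X, M)| = |M|` for `X` connected.
-/

set_option autoImplicit false
universe u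
open CategoryTheory CategoryTheory.Limits AlgebraicGeometry Opposite

namespace Groth.Agent.Sga5.H650.ConstCount

open Groth.Agent.Sga5 Groth.Agent.Sga4B

section Additive

variable (Φ : AddCommGrpCat.{u + 1} ⥤ AddCommGrpCat.{u + 1}) [Φ.Additive]

/-- Additive functors of `M` turn finite products into finite products. -/
theorem card_obj_pi {ι : Type} [Fintype ι] (M : ι → Type) [∀ i, AddCommGroup (M i)] :
    Nat.card (Φ.obj (AddCommGrpCat.of (ULift.{u + 1} (∀ i, M i))) : AddCommGrpCat.{u + 1}) =
      ∏ i, Nat.card (Φ.obj (AddCommGrpCat.of (ULift.{u + 1} (M i))) : AddCommGrpCat.{u + 1}) := by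
  classical
  let pr (j : ι) := Φ.map (HcConst.uliftHom.{u + 1} (Pi.evalAddMonoidHom M j))
  let inj (j : ι) := Φ.map (HcConst.uliftHom.{u + 1} (AddMonoidHom.single M j))
  have hsum : ∑ j, pr j ≫ inj j = 𝟙 _ := by
    have h1 : ∑ j, (HcConst.uliftHom.{u + 1} (Pi.evalAddMonoidHom M j)) ≫
        (HcConst.uliftHom.{u + 1} (AddMonoidHom.single M j)) = 𝟙 _ := by
      simp_rw [← HcConst.uliftHom_comp]
      rw [← HcConst.uliftHom_sum, ← HcConst.uliftHom_id]
      congr 1
      ext x i
      simp [Finset.sum_apply, Pi.single_apply]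
    rw [← Φ.map_id, ← h1, Functor.map_sum]
    simp only [pr, inj, Functor.map_comp]
  have hij (i j : ι) : inj i ≫ pr j = if h : i = j then eqToHom (by rw [h]) else 0 := by
    by_cases h : i = j
    · subst h
      simp only [inj, pr, dif_pos, eqToHom_refl]
      rw [← Functor.map_comp, ← HcConst.uliftHom_comp]
      have : (Pi.evalAddMonoidHom M i).comp (AddMonoidHom.single M i) = AddMonoidHom.id _ := by
        ext x
        simp
      rw [this, HcConst.uliftHom_id, Φ.map_id]
    · rw [dif_neg h]
      simp only [inj, pr]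
      rw [← Functor.map_comp, ← HcConst.uliftHom_comp]
      have : (Pi.evalAddMonoidHom M j).comp (AddMonoidHom.single M i) = 0 := by
        ext x
        simp [Pi.single_eq_of_ne (Ne.symm h)]
      rw [this, HcConst.uliftHom_zero, Φ.map_zero]
  have h2 : ∀ z, z = ∑ j, inj j (pr j z) := by
    intro z
    let ev : (Φ.obj (AddCommGrpCat.of (ULift.{u + 1} (∀ i, M i))) ⟶
        Φ.obj (AddCommGrpCat.of (ULift.{u + 1} (∀ i, M i)))) →+
        (Φ.obj (AddCommGrpCat.of (ULift.{u + 1} (∀ i, M i))) : AddCommGrpCat.{u + 1}) :=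
      { toFun := fun f => f z
        map_zero' := rfl
        map_add' := fun _ _ => rfl }
    have h3 : ev (∑ j, pr j ≫ inj j) = ∑ j, ev (pr j ≫ inj j) := map_sum ev _ _
    rw [hsum] at h3
    exact h3
  have hbij : Function.Bijective (fun (x : (Φ.obj (AddCommGrpCat.of (ULift.{u + 1} (∀ i, M i))) :
      AddCommGrpCat.{u + 1})) (j : ι) => pr j x) := by
    constructor
    · intro x y hxy
      rw [h2 x, h2 y]
      refine Finset.sum_congr rfl fun j _ => ?_
      have h4 : pr j x = pr j y := congrFun hxy j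
      rw [h4]
    · intro y
      refine ⟨∑ i, inj i (y i), ?_⟩
      funext j
      change pr j (∑ i, inj i (y i)) = y j
      rw [map_sum, Finset.sum_eq_single j]
      · have := hij j j
        rw [dif_pos rfl, eqToHom_refl] at this
        exact congr($this (y j))
      · intro i _ h
        have := hij i j
        rw [dif_neg h] at this
        exact congr($this (y i))
      · intro h
        exact absurd (Finset.mem_univ j) h
  rw [Nat.card_congr (Equiv.ofBijective _ hbij), Nat.card_pi]

theorem card_obj_of_cyclic (N c : ℕ) (hN : 1 ≤ N)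
    (h : ∀ n : ℕ, 1 ≤ n → n ∣ N →
      Nat.card (Φ.obj (AddCommGrpCat.of (ULift.{u + 1} (ZMod n))) : AddCommGrpCat.{u + 1}) = n ^ c)
    (M : Type) [AddCommGroup M] [Finite M] (hM : ∀ m : M, N • m = 0) :
    Nat.card (Φ.obj (AddCommGrpCat.of (ULift.{u + 1} M)) : AddCommGrpCat.{u + 1}) = Nat.card M ^ c := by
  obtain ⟨ι, _, n, hn, ⟨e⟩⟩ := AddCommGroup.equiv_directSum_zmod_of_finite' M
  classical
  let e' : M ≃+ (∀ i, ZMod (n i)) := e.trans (DirectSum.addEquivProd _)
  have hdvd : ∀ i, n i ∣ N := by
    intro i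
    have h1 : N • (Pi.single i (1 : ZMod (n i)) : ∀ i, ZMod (n i)) = 0 := by
      have := congrArg e' (hM (e'.symm (Pi.single i 1)))
      rw [map_nsmul, map_zero, AddEquiv.apply_symm_apply] at this
      exact this
    have h2 := congrFun h1 i
    rw [Pi.smul_apply, Pi.single_eq_same, Pi.zero_apply, nsmul_one] at h2
    exact (ZMod.natCast_eq_zero_iff _ _).1 h2
  have h1 : Nat.card (Φ.obj (AddCommGrpCat.of (ULift.{u + 1} M)) : AddCommGrpCat.{u + 1}) =
      Nat.card (Φ.obj (AddCommGrpCat.of (ULift.{u + 1} (∀ i, ZMod (n i)))) :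
        AddCommGrpCat.{u + 1}) := by
    let a : (ULift.{u + 1} M) ≃+ (ULift.{u + 1} (∀ i, ZMod (n i))) :=
      (AddEquiv.ulift.trans e').trans AddEquiv.ulift.symm
    exact Nat.card_congr ((Φ.mapIso a.toAddCommGrpIso).addCommGroupIsoToAddEquiv).toEquiv
  rw [h1, card_obj_pi, Nat.card_congr e'.toEquiv, Nat.card_pi, ← Finset.prod_pow]
  refine Finset.prod_congr rfl fun i _ => ?_
  rw [h (n i) (hn i).le (hdvd i), Nat.card_zmod]

end Additive

theorem card_H_const_of_cyclic (X : Scheme.{u}) (q N c : ℕ) (hN : 1 ≤ N)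
    (h : ∀ n : ℕ, 1 ≤ n → n ∣ N → Nat.card (EtCoh.H X (EtCoh.const X (ZMod n)) q) = n ^ c)
    (M : Type) [AddCommGroup M] [Finite M] (hM : ∀ m : M, N • m = 0) :
    Nat.card (EtCoh.H X (EtCoh.const X M) q) = Nat.card M ^ c := by
  have hadd : (EtCoh.HF X q).Additive := by
    unfold EtCoh.HF
    infer_instance
  exact card_obj_of_cyclic (constantSheaf X.smallEtaleTopology AddCommGrpCat.{u + 1} ⋙ EtCoh.HF X q)
    N c hN h M hM

/-- Locally constant functions on a connected space are constant. -/
theorem card_locallyConstant (X : Type*) [TopologicalSpace X] [ConnectedSpace X] (A : Type*) :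
    Nat.card (LocallyConstant X A) = Nat.card A := by
  obtain ⟨x⟩ : Nonempty X := inferInstance
  refine Nat.card_congr ⟨fun f => f x, fun a => LocallyConstant.const X a, fun f => ?_, fun a => rfl⟩
  ext y
  exact f.isLocallyConstant.apply_eq_of_preconnectedSpace x y

theorem card_H0_const (X : Scheme.{u}) [ConnectedSpace X] (M : Type) [AddCommGroup M] :
    Nat.card (EtCoh.H X (EtCoh.const X M) 0) = Nat.card M := by
  have e : EtCoh.H X (EtCoh.const X M) 0 ≃+ LocallyConstant X (ULift.{u + 1} M) :=
    AddEquiv.trans (Sheaf.H.equiv₀ _ (EtCore.topIsTerminal X))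
      (((sheafToPresheaf _ _).mapIso (Groth.Agent.Sga4B.ConstLC.constIso X M)).app
        (op (EtCoh.top X))).addCommGroupIsoToAddEquiv
  rw [Nat.card_congr e.toEquiv, card_locallyConstant, Nat.card_congr Equiv.ulift]

end Groth.Agent.Sga5.H650.ConstCount
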